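import Groth.Agent.L05.SepResidueSol.Valuation
import Groth.Agent.L05.TotRam.Main
import Groth.Agent.L19.EtTri.Approx
import Mathlib.RingTheory.AdjoinRoot

/-! # Coefficient bounds in a purely inseparable extension of degree `p` -/

set_option autoImplicit false
set_option linter.style.haveILetI false

universe u

open IsLocalRing Polynomial

namespace Groth.L19.EtSep

open EtRam

/-- An element lying in every valuation ring over `R` is integral. -/
theorem isIntegral_of_forall_valuationSubring {R M : Type u} [CommRing R] [Field M] [Algebra R M] {x : M}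
    (h : ∀ V : ValuationSubring M, (∀ r, algebraMap R M r ∈ V) → x ∈ V) : IsIntegral R x := by
  by_contra hx
  haveI : IsIntegrallyClosedIn (integralClosure R M).toSubring M := by
    rw [Subring.isIntegrallyClosedIn_iff]
    intro y hy
    exact isIntegral_trans (R := R) (A := integralClosure R M) y hy
  obtain ⟨V, hV, hxV⟩ := (integralClosure R M).toSubring.exists_le_valuationSubring_of_isIntegrallyClosedIn
    (x := x) hx
  exact hxV (h V fun r => hV ((integralClosure R M).algebraMap_mem r))

/-- Elements of a valuation ring over `B` in an algebraic extension are fractions of integral elements with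
unit denominators. -/
theorem exists_integral_fraction {B M : Type u} [CommRing B] [IsDomain B] [IsDiscreteValuationRing B] [Field M]
    [Algebra B M] (hinj : Function.Injective (algebraMap B M)) (W : ValuationSubring M)
    (hW : Dominates B (algebraMap B M) W)
    {y : M} (hy : y ∈ W) (halg : IsAlgebraic B y) :
    ∃ u s : M, IsIntegral B u ∧ IsIntegral B s ∧ W.valuation s = 1 ∧ s * y = u := by
  classical
  by_cases hy0 : y = 0
  · exact ⟨0, 1, isIntegral_zero, isIntegral_one, map_one _, by rw [hy0, mul_zero]⟩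
  obtain ⟨P, hP0, hPy⟩ := halg
  obtain ⟨j₀, hj₀, hmin⟩ := P.support.exists_min_image (fun i => IsDiscreteValuationRing.addVal B (P.coeff i))
    (support_nonempty.mpr hP0)
  have hne : P.coeff j₀ ≠ 0 := mem_support_iff.mp hj₀
  have hdvd : ∀ i, P.coeff j₀ ∣ P.coeff i := fun i => by
    by_cases hi : P.coeff i = 0
    · rw [hi]; exact dvd_zero _
    · exact IsDiscreteValuationRing.addVal_le_iff_dvd.mp (hmin i (mem_support_iff.mpr hi))
  obtain ⟨c, hc⟩ : ∃ c, c = P.coeff j₀ := ⟨_, rfl⟩
  rw [← hc] at hne hdvd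
  obtain ⟨Q, rfl⟩ : Polynomial.C c ∣ P := (C_dvd_iff_dvd_coeff _ _).mpr hdvd
  have hQy : aeval y Q = 0 := by
    rw [map_mul, aeval_C, mul_eq_zero] at hPy
    exact hPy.resolve_left fun h => hne (hinj (h.trans (map_zero _).symm))
  have hQu : IsUnit (Q.coeff j₀) := by
    rw [coeff_C_mul] at hc
    rw [mul_left_cancel₀ hne (show c * Q.coeff j₀ = c * 1 by rw [mul_one, ← hc])]
    exact isUnit_one
  -- the largest index of a unit coefficient
  let S : Finset ℕ := Q.support.filter fun i => IsUnit (Q.coeff i)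
  have hSne : S.Nonempty := ⟨j₀, Finset.mem_filter.mpr ⟨mem_support_iff.mpr hQu.ne_zero, hQu⟩⟩
  set j := S.max' hSne with hj
  have hju : IsUnit (Q.coeff j) := (Finset.mem_filter.mp (S.max'_mem hSne)).2
  have hjd : j ≤ Q.natDegree := le_natDegree_of_ne_zero hju.ne_zero
  have hbig : ∀ i, j < i → ¬ IsUnit (Q.coeff i) := fun i hi hu =>
    absurd (S.le_max' i (Finset.mem_filter.mpr ⟨mem_support_iff.mpr hu.ne_zero, hu⟩)) (not_le.mpr hi)
  set g := algebraMap B M with hg
  set n := Q.natDegree with hn
  let T : ℕ → M := fun i => g (Q.coeff i) * y ^ i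
  have hsum : ∑ i ∈ Finset.range j, T i + ∑ i ∈ Finset.Ico j (n + 1), T i = 0 := by
    rw [Finset.sum_range_add_sum_Ico _ (by omega), ← hQy, aeval_eq_sum_range]
    exact Finset.sum_congr rfl fun i _ => (Algebra.smul_def _ _).symm
  set s : M := ∑ i ∈ Finset.Ico j (n + 1), g (Q.coeff i) * y ^ (i - j) with hs
  set t : M := ∑ i ∈ Finset.range j, g (Q.coeff i) * y⁻¹ ^ (j - 1 - i) with ht
  have hyW1 : W.valuation y ≤ 1 := (W.valuation_le_one_iff _).mpr hy
  have hsval : W.valuation s = 1 := by
    have hjv : W.valuation (g (Q.coeff j) * y ^ (j - j)) = 1 := by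
      rw [Nat.sub_self, pow_zero, mul_one]
      obtain ⟨w, hw⟩ := hju
      rw [← hw]
      exact Groth.L19.EtTri.valuation_units W g hW.1 w
    rw [hs, W.valuation.map_sum_eq_of_lt (Finset.mem_Ico.mpr ⟨le_rfl, by omega⟩) fun i hi => ?_, hjv]
    rw [Finset.mem_sdiff, Finset.mem_Ico, Finset.mem_singleton] at hi
    rw [hjv, map_mul, map_pow]
    exact lt_of_le_of_lt (mul_le_of_le_one_right' (pow_le_one' hyW1 _))
      (hW.2 _ ((mem_maximalIdeal _).mpr (hbig i (by omega))))
  have hj1 : 0 < j := by
    rcases Nat.eq_zero_or_pos j with h0 | h0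
    · exfalso
      have hs0 : s = 0 := by
        rw [hs, ← hsum, h0, Finset.range_zero, Finset.sum_empty, zero_add]
        exact Finset.sum_congr rfl fun i _ => by simp [T]
      rw [hs0, map_zero] at hsval
      exact zero_ne_one hsval
    · exact h0
  have hst : s * y = -t := by
    have key : (s * y + t) * y ^ (j - 1) = 0 := by
      rw [← hsum, add_mul, hs, ht, Finset.sum_mul, Finset.sum_mul, Finset.sum_mul, add_comm]
      refine congrArg₂ (· + ·) (Finset.sum_congr rfl fun i hi => ?_) (Finset.sum_congr rfl fun i hi => ?_)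
      · rw [Finset.mem_range] at hi
        simp only [T]
        rw [mul_assoc, inv_pow, ← pow_sub_mul_pow y (show j - 1 - i ≤ j - 1 by omega),
          show j - 1 - (j - 1 - i) = i by omega]
        field_simp
      · rw [Finset.mem_Ico] at hi
        simp only [T]
        rw [mul_assoc, mul_assoc, ← pow_succ', ← pow_add, show i - j + (j - 1 + 1) = i by omega]
    exact eq_neg_of_add_eq_zero_left ((mul_eq_zero.mp key).resolve_right (pow_ne_zero _ hy0))
  have hpoly : ∀ V : ValuationSubring M, (∀ r, g r ∈ V) → ∀ w ∈ V, ∀ (I : Finset ℕ) (f : ℕ → ℕ),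
      ∑ i ∈ I, g (Q.coeff i) * w ^ f i ∈ V := fun V hV w hw I f =>
    sum_mem fun i _ => mul_mem (hV _) (pow_mem hw _)
  refine ⟨s * y, s, ?_, ?_, hsval, rfl⟩
  · rw [hst]
    refine (isIntegral_of_forall_valuationSubring fun V hV => ?_).neg
    rcases V.mem_or_inv_mem y with h | h
    · rw [eq_neg_iff_add_eq_zero, add_comm, add_eq_zero_iff_eq_neg] at hst
      rw [hst]
      exact neg_mem (mul_mem (hpoly V hV y h _ _) h)
    · exact hpoly V hV _ h _ _
  · refine isIntegral_of_forall_valuationSubring fun V hV => ?_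
    rcases V.mem_or_inv_mem y with h | h
    · exact hpoly V hV y h _ _
    · rw [show s = -t * y⁻¹ by rw [← hst, mul_inv_cancel_right₀ hy0]]
      exact mul_mem (neg_mem (hpoly V hV _ h _ _)) h

/-- A bound for the coordinates by the norm, uniform in the valuation rings over `B`. -/
theorem exists_bound {p : ℕ} (hp : p.Prime) {B L M : Type u} [CommRing B] [IsDomain B]
    [IsDiscreteValuationRing B] [Field L] [Algebra B L] [IsFractionRing B L] [Field M] [Algebra L M]
    [Algebra B M] [IsScalarTower B L M] [FiniteDimensional L M] [CharP M p] (hN : CAlg.IsN2 B)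
    {a : M} (ha : ∀ b : M, b ^ p ≠ a) {π : B} (hπ : Irreducible π) :
    ∃ r : ℕ, ∀ (W : ValuationSubring M), Dominates B (algebraMap B M) W →
      ∀ c : Fin p → M, ∀ i, W.valuation (c i) ^ p * W.valuation (algebraMap B M π) ^ ((r + 1) * p) ≤
        W.valuation (∑ j, c j ^ p * a ^ (j : ℕ)) := by
  classical
  haveI := Fact.mk hp
  have hirr : Irreducible (X ^ p - C a) := X_pow_sub_C_irreducible_of_prime hp ha
  haveI := Fact.mk hirr
  set f : M[X] := X ^ p - C a with hf
  have hfd : f.natDegree = p := natDegree_X_pow_sub_C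
  let M₂ := AdjoinRoot f
  let α : M₂ := AdjoinRoot.root f
  haveI : CharP M₂ p := charP_of_injective_algebraMap (algebraMap M M₂).injective p
  have hαp : α ^ p = algebraMap M M₂ a := by
    have h : aeval α (X ^ p - C a : M[X]) = 0 := by
      show aeval α f = 0
      rw [AdjoinRoot.aeval_eq]; exact AdjoinRoot.mk_self
    rwa [map_sub, map_pow, aeval_X, aeval_C, sub_eq_zero] at h
  haveI : FiniteDimensional M M₂ := (AdjoinRoot.powerBasis hirr.ne_zero).finite
  haveI : FiniteDimensional L M₂ := FiniteDimensional.trans L M M₂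
  haveI : IsScalarTower B L M₂ := IsScalarTower.of_algebraMap_eq fun x => by
    rw [IsScalarTower.algebraMap_apply B M M₂, IsScalarTower.algebraMap_apply B L M,
      ← IsScalarTower.algebraMap_apply L M M₂]
  haveI : IsLocalization (⊥ : Submonoid B) B := IsLocalization.self bot_le
  haveI : Module.Finite B (integralClosure B M₂) :=
    Groth.L03.Japanese.isN2_localization_aux (⊥ : Submonoid B) B L M₂ hN
  haveI : Algebra.IsAlgebraic B M :=
    haveI : Algebra.IsAlgebraic B L := IsLocalization.isAlgebraic _ (nonZeroDivisors B)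
    Algebra.IsAlgebraic.trans B L M
  have hinjM : Function.Injective (algebraMap B M) := by
    rw [IsScalarTower.algebraMap_eq B L M]
    exact (algebraMap L M).injective.comp (IsFractionRing.injective B L)
  let pb := AdjoinRoot.powerBasis hirr.ne_zero
  have hdim : pb.dim = p := hfd
  have hrepr : ∀ z : M₂, ∃ e : Fin p → M, z = ∑ j, algebraMap M M₂ (e j) * α ^ (j : ℕ) := fun z => by
    refine ⟨fun j => pb.basis.repr z (Fin.cast hdim.symm j), ?_⟩
    conv_lhs => rw [← pb.basis.sum_repr z]
    refine Fintype.sum_equiv (finCongr hdim) _ _ fun j => ?_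
    rw [pb.basis_eq_pow, Algebra.smul_def]
    rfl
  have huniq : ∀ e e' : Fin p → M, ∑ j, algebraMap M M₂ (e j) * α ^ (j : ℕ) =
      ∑ j, algebraMap M M₂ (e' j) * α ^ (j : ℕ) → e = e' := fun e e' h => by
    have hli : LinearIndependent M fun j : Fin p => α ^ (j : ℕ) := by
      have := pb.basis.linearIndependent.comp (Fin.cast hdim.symm) (Fin.cast_injective _)
      have e : (pb.basis ∘ Fin.cast hdim.symm) = fun j : Fin p => α ^ (j : ℕ) :=
        funext fun j => by rw [Function.comp_apply, pb.basis_eq_pow]; rfl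
      rw [e] at this
      exact this
    simp only [← Algebra.smul_def] at h
    exact funext fun j => sub_eq_zero.mp (Fintype.linearIndependent_iff.mp hli (fun j => e j - e' j)
      (by simp only [sub_smul, Finset.sum_sub_distrib, h, sub_self]) j)
  -- denominators of generators
  obtain ⟨G, hG⟩ := Module.Finite.fg_top (R := B) (M := integralClosure B M₂)
  choose e he using fun z : integralClosure B M₂ => hrepr z
  have hden : ∀ x : M, ∃ r : ℕ, IsIntegral B (algebraMap B M π ^ r * x) := by
    intro x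
    obtain ⟨d, hd⟩ := IsIntegral.exists_multiple_integral_of_isLocalization (nonZeroDivisors B) x
      (IsIntegral.of_finite L x)
    obtain ⟨m, w, hw⟩ := IsDiscreteValuationRing.eq_unit_mul_pow_irreducible (nonZeroDivisors.ne_zero d.2) hπ
    refine ⟨m, ?_⟩
    have h2 := (isIntegral_algebraMap (A := M) (x := ((w⁻¹ : Bˣ) : B))).mul hd
    rwa [Submonoid.smul_def, Algebra.smul_def, hw, map_mul, map_pow, ← mul_assoc, ← mul_assoc, ← map_mul,
      Units.inv_mul, map_one, one_mul] at h2
  choose r hr using fun q : integralClosure B M₂ × Fin p => hden (e q.1 q.2)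
  refine ⟨(G ×ˢ Finset.univ).sup r, fun W hW c i => ?_⟩
  set R := (G ×ˢ Finset.univ).sup r with hR
  set P := algebraMap B M π with hP
  have hP0 : P ≠ 0 := fun h => hπ.ne_zero (hinjM (h.trans (map_zero _).symm))
  have hP1 : W.valuation P < 1 := hW.2 π ((mem_maximalIdeal _).mpr hπ.not_isUnit)
  have hintW : ∀ x : M, IsIntegral B x → W.valuation x ≤ 1 := fun x hx => by
    letI : Algebra B W := (RingHom.codRestrict (algebraMap B M) W.toSubring hW.1).toAlgebra
    haveI : IsScalarTower B W M := IsScalarTower.of_algebraMap_eq fun _ => rfl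
    obtain ⟨y, hy⟩ := IsIntegrallyClosedIn.isIntegral_iff.mp (hx.tower_top (A := W))
    exact hy ▸ W.valuation_le_one y
  -- the bound for norms of size at most one
  have hsmall : ∀ d : Fin p → M, W.valuation (∑ j, d j ^ p * a ^ (j : ℕ)) ≤ 1 →
      W.valuation (d i) * W.valuation P ^ R ≤ 1 := by
    intro d hd
    set z : M₂ := ∑ j, algebraMap M M₂ (d j) * α ^ (j : ℕ) with hz
    have hzp : z ^ p = algebraMap M M₂ (∑ j, d j ^ p * a ^ (j : ℕ)) := by
      rw [hz, sum_pow_char, map_sum]
      refine Finset.sum_congr rfl fun j _ => ?_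
      rw [mul_pow, ← pow_mul, mul_comm (j : ℕ), pow_mul, hαp, map_mul, map_pow, map_pow]
    obtain ⟨u, s, hu, hs, hs1, hsu⟩ := exists_integral_fraction hinjM W hW ((W.valuation_le_one_iff _).mp hd)
      (Algebra.IsAlgebraic.isAlgebraic _)
    have hint : IsIntegral B (algebraMap M M₂ s * z) := by
      refine IsIntegral.of_pow hp.pos ?_
      rw [mul_pow, hzp, ← map_pow, ← map_mul, show s ^ p = s ^ (p - 1) * s by
        rw [← pow_succ, Nat.sub_add_cancel hp.pos], mul_assoc, hsu]
      exact ((hs.pow _).mul hu).algebraMap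
    have hmem : (⟨_, hint⟩ : integralClosure B M₂) ∈ Submodule.span B (G : Set (integralClosure B M₂)) := by
      rw [hG]; exact Submodule.mem_top
    obtain ⟨b, -, hb⟩ := Submodule.mem_span_finset.mp hmem
    have hcoef : (fun j => s * d j) = fun j => ∑ g ∈ G, algebraMap B M (b g) * e g j := by
      apply huniq
      have h1 := congrArg (fun w : integralClosure B M₂ => (w : M₂)) hb
      simp only [AddSubmonoidClass.coe_finsetSum, Subalgebra.coe_smul] at h1
      rw [show ∑ j, algebraMap M M₂ (s * d j) * α ^ (j : ℕ) = algebraMap M M₂ s * z by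
        rw [hz, Finset.mul_sum]; exact Finset.sum_congr rfl fun j _ => by rw [map_mul, mul_assoc], ← h1]
      simp only [map_sum, map_mul, Finset.sum_mul]
      rw [Finset.sum_comm]
      refine Finset.sum_congr rfl fun g _ => ?_
      rw [Algebra.smul_def, he g, Finset.mul_sum, IsScalarTower.algebraMap_apply B M M₂]
      exact Finset.sum_congr rfl fun j _ => by ring
    have hci := congrFun hcoef i
    rw [show W.valuation (d i) * W.valuation P ^ R = W.valuation (s * d i * P ^ R) by
      rw [map_mul, map_mul, map_pow, hs1, one_mul], hci, Finset.sum_mul]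
    refine W.valuation.map_sum_le fun g hg => ?_
    have hle : r (g, i) ≤ R := Finset.le_sup (f := r) (Finset.mem_product.mpr ⟨hg, Finset.mem_univ _⟩)
    rw [← pow_sub_mul_pow P hle, show algebraMap B M (b g) * e g i * (P ^ (R - r (g, i)) * P ^ r (g, i)) =
      algebraMap B M (b g) * P ^ (R - r (g, i)) * (P ^ r (g, i) * e g i) by ring]
    exact hintW _ ((isIntegral_algebraMap.mul (isIntegral_algebraMap.pow _)).mul (hr (g, i)))
  -- scaling
  set N := ∑ j, c j ^ p * a ^ (j : ℕ) with hNdef
  by_cases hN0 : N = 0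
  · have hc : c = 0 := by
      apply huniq
      have hzp : (∑ j, algebraMap M M₂ (c j) * α ^ (j : ℕ)) ^ p = 0 := by
        rw [sum_pow_char, ← map_zero (algebraMap M M₂), ← hN0, hNdef, map_sum]
        refine Finset.sum_congr rfl fun j _ => ?_
        rw [mul_pow, ← pow_mul, mul_comm (j : ℕ), pow_mul, hαp, map_mul, map_pow, map_pow]
      rw [(pow_eq_zero_iff'.mp hzp).1]
      simp
    rw [hc, Pi.zero_apply, map_zero, zero_pow hp.pos.ne', zero_mul]
    exact zero_le'
  letI : Algebra B W := (RingHom.codRestrict (algebraMap B M) W.toSubring hW.1).toAlgebra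
  haveI : IsScalarTower B W M := IsScalarTower.of_algebraMap_eq fun _ => rfl
  haveI : IsLocalHom (algebraMap B W) := ⟨fun x hx => by
    by_contra hxu
    exact ((ValuationSubring.valuation_eq_one_iff W (algebraMap B W x)).mp hx).not_lt
      (hW.2 x ((mem_maximalIdeal _).mpr hxu))⟩
  obtain ⟨hdvr, -⟩ := Groth.L05.SepResidueSol.isDiscreteValuationRing_of_finite B L W
  obtain ⟨ϖ, hϖ⟩ := IsDiscreteValuationRing.exists_irreducible W
  set v := W.valuation
  have hϖ0 : (ϖ : M) ≠ 0 := fun h => hϖ.ne_zero (Subtype.ext h)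
  have hϖ1 : v (ϖ : M) < 1 := (ValuationSubring.valuation_lt_one_iff W ϖ).mp ((mem_maximalIdeal _).mpr hϖ.not_isUnit)
  obtain ⟨x, y, hy, hxy⟩ := IsFractionRing.div_surjective (A := W) N
  have hx0 : x ≠ 0 := fun h => hN0 (by rw [← hxy, h, map_zero, zero_div])
  obtain ⟨nx, ux, rfl⟩ := IsDiscreteValuationRing.eq_unit_mul_pow_irreducible hx0 hϖ
  obtain ⟨ny, uy, rfl⟩ := IsDiscreteValuationRing.eq_unit_mul_pow_irreducible (nonZeroDivisors.ne_zero hy) hϖ
  have hunit : ∀ w : Wˣ, v ((w : W) : M) = 1 := fun w => (W.valuation_eq_one_iff (w : W)).mp w.isUnit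
  have hNv : v N = v (ϖ : M) ^ ((nx : ℤ) - ny) := by
    rw [← hxy, map_div₀, map_mul, map_mul, map_pow, map_pow, map_mul, map_mul, map_pow, map_pow,
      show algebraMap W M (ux : W) = ((ux : W) : M) from rfl, show algebraMap W M (uy : W) = ((uy : W) : M) from rfl,
      hunit, hunit, one_mul, one_mul, zpow_sub₀ ((_root_.map_ne_zero _).mpr hϖ0), zpow_natCast, zpow_natCast]
    rfl
  set n := (nx : ℤ) - ny with hn
  set q := n / (p : ℤ) with hq
  have hpz : (0 : ℤ) < p := by exact_mod_cast hp.pos
  have h1 : 0 ≤ n - q * p := by have := Int.emod_nonneg n hpz.ne'; rw [Int.emod_def] at this; linarith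
  have h2 : n - q * p ≤ p := by have := Int.emod_lt_of_pos n hpz; rw [Int.emod_def] at this; linarith
  have hvpos : 0 < v (ϖ : M) := zero_lt_iff.mpr ((_root_.map_ne_zero _).mpr hϖ0)
  have hs := hsmall (fun j => c j / (ϖ : M) ^ q) (by
    rw [show ∑ j, (c j / (ϖ : M) ^ q) ^ p * a ^ (j : ℕ) = N / ((ϖ : M) ^ q) ^ p by
      rw [hNdef, div_eq_mul_inv (∑ j, c j ^ p * a ^ (j : ℕ)), Finset.sum_mul]; exact Finset.sum_congr rfl fun j _ => by rw [div_pow, div_mul_eq_mul_div, div_eq_mul_inv],
      map_div₀, map_pow, map_zpow₀, hNv, ← zpow_natCast, ← zpow_mul, ← zpow_sub₀ hvpos.ne']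
    exact zpow_le_one₀ hvpos hϖ1.le h1)
  have hPϖ : v P ≤ v (ϖ : M) := by
    have hnu : ¬ IsUnit (algebraMap B W π) := fun h => hπ.not_isUnit (isUnit_of_map_unit _ _ h)
    obtain ⟨w, hw⟩ := Ideal.mem_span_singleton.mp (hϖ.maximalIdeal_eq ▸ (mem_maximalIdeal _).mpr hnu)
    rw [show P = ((algebraMap B W π : W) : M) from rfl, hw]
    push_cast
    rw [map_mul]
    exact mul_le_of_le_one_right' (W.valuation_le_one w)
  simp only [map_div₀, map_zpow₀] at hs
  rw [div_mul_eq_mul_div, div_le_one₀ (zpow_pos hvpos q)] at hs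
  calc v (c i) ^ p * v P ^ ((R + 1) * p) = (v (c i) * v P ^ R) ^ p * v P ^ p := by
        rw [add_mul, one_mul, pow_add, mul_pow, ← pow_mul, ← mul_assoc]
    _ ≤ (v (ϖ : M) ^ q) ^ p * v (ϖ : M) ^ p :=
        mul_le_mul' (pow_le_pow_left' hs p) (pow_le_pow_left' hPϖ p)
    _ ≤ v N := by
        rw [hNv, ← zpow_natCast (v (ϖ : M) ^ q), ← zpow_mul, ← zpow_natCast (v (ϖ : M)) p, ← zpow_add₀ hvpos.ne']
        exact zpow_le_zpow_right_of_le_one₀ hvpos hϖ1.le (by linarith)

end Groth.L19.EtSep
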