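import Groth.Agent.L19.EtSep.Drive
import Groth.Agent.L03.GeomReduced
import Mathlib.FieldTheory.PurelyInseparable.Tower

/-! # Separable solutions from solutions -/

set_option autoImplicit false
set_option linter.style.haveILetI false

universe u

open Polynomial IntermediateField

namespace Groth.L19.EtSep

open EtRam

/-- A non-separable finite extension has a purely inseparable step of degree `p` on top. -/
theorem exists_top_step {p : ℕ} (hp : p.Prime) {K K₂ : Type u} [Field K] [Field K₂] [Algebra K K₂]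
    [FiniteDimensional K K₂] [ExpChar K p] (h : ¬ Algebra.IsSeparable K K₂) :
    ∃ K₁ : IntermediateField K K₂, Module.finrank K₁ K₂ = p ∧ IsPurelyInseparable K₁ K₂ := by
  classical
  haveI := Fact.mk hp
  set Ks := separableClosure K K₂ with hKs
  let P : ℕ → Prop := fun n => ∃ F : IntermediateField K K₂, Ks ≤ F ∧ F ≠ ⊤ ∧ Module.finrank F K₂ = n
  have hP : ∃ n, P n := ⟨_, Ks, le_rfl, fun hh => h ((separableClosure.eq_top_iff (F := K) (E := K₂)).mp hh), rfl⟩
  obtain ⟨K₁, hle, hne, hrank⟩ := Nat.find_spec hP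
  haveI : IsPurelyInseparable K₁ K₂ := by
    haveI : IsPurelyInseparable Ks K₂ := separableClosure.isPurelyInseparable K K₂
    letI : Algebra Ks K₁ := (IntermediateField.inclusion hle).toAlgebra
    haveI : IsScalarTower Ks K₁ K₂ := IsScalarTower.of_algebraMap_eq fun _ => rfl
    exact IsPurelyInseparable.tower_top Ks K₁ K₂
  haveI : ExpChar K₁ p := expChar_of_injective_algebraMap (algebraMap K K₁).injective p
  refine ⟨K₁, ?_, inferInstance⟩
  have hmax : ∀ x : K₂, x ∉ K₁ → adjoin K₁ ({x} : Set K₂) = ⊤ := by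
    intro x hx
    by_contra hne'
    set F := (adjoin K₁ ({x} : Set K₂)).restrictScalars K with hF
    have hK₁F : K₁ ≤ F := fun y hy => (adjoin K₁ ({x} : Set K₂)).algebraMap_mem ⟨y, hy⟩
    have hlt : Module.finrank F K₂ < Nat.find hP := by
      have h1 : Module.finrank K K₁ < Module.finrank K F := by
        refine lt_of_le_of_ne (IntermediateField.finrank_le_of_le_right hK₁F) fun he => hx ?_
        rw [IntermediateField.eq_of_le_of_finrank_eq hK₁F he]
        exact IntermediateField.mem_adjoin_simple_self K₁ x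
      have h2 := Module.finrank_mul_finrank K K₁ K₂
      have h3 := Module.finrank_mul_finrank K F K₂
      have h4 : 0 < Module.finrank F K₂ := Module.finrank_pos
      rw [← hrank]
      nlinarith
    refine Nat.find_min hP hlt ⟨F, hle.trans hK₁F, fun ht => hne' ?_, rfl⟩
    rw [hF] at ht
    exact IntermediateField.restrictScalars_eq_top_iff.mp ht
  obtain ⟨x, hx⟩ : ∃ x, x ∉ K₁ := by
    by_contra hall; push Not at hall; exact hne (eq_top_iff.mpr fun x _ => hall x)
  obtain ⟨k, y, hk⟩ := IsPurelyInseparable.minpoly_eq_X_pow_sub_C K₁ p x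
  have hint := IsIntegral.of_finite K₁ x
  have hk0 : k ≠ 0 := fun hk0 => by
    have h0 := minpoly.aeval K₁ x
    rw [hk, hk0, pow_zero, map_sub, map_pow, aeval_X, aeval_C, pow_one, sub_eq_zero] at h0
    exact hx (h0 ▸ y.2)
  have hdeg : Module.finrank K₁ K₂ = p ^ k := by
    rw [← IntermediateField.finrank_top', ← hmax x hx, IntermediateField.adjoin.finrank hint, hk,
      natDegree_X_pow_sub_C]
  rw [hdeg]
  have hxp : x ^ p ∈ K₁ := by
    by_contra hxp
    have h1 : Module.finrank K₁ K₂ ≤ p ^ (k - 1) := by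
      rw [← IntermediateField.finrank_top', ← hmax _ hxp,
        IntermediateField.adjoin.finrank (IsIntegral.of_finite K₁ (x ^ p))]
      refine (natDegree_le_of_dvd (minpoly.dvd K₁ (x ^ p) (p := X ^ p ^ (k - 1) - C y) ?_)
        (X_pow_sub_C_ne_zero (pow_pos hp.pos _) _)).trans_eq natDegree_X_pow_sub_C
      have h0 := minpoly.aeval K₁ x
      rw [hk] at h0
      simp only [map_sub, map_pow, aeval_X, aeval_C] at h0 ⊢
      rwa [← pow_mul, ← pow_succ', Nat.sub_add_cancel (Nat.pos_of_ne_zero hk0)]
    rw [hdeg] at h1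
    exact absurd h1 (not_le.mpr (Nat.pow_lt_pow_right hp.one_lt (by omega)))
  have h2 : (minpoly K₁ x).natDegree ≤ p :=
    (natDegree_le_of_dvd (minpoly.dvd K₁ x (p := X ^ p - C (⟨x ^ p, hxp⟩ : K₁)) (by
      simp only [map_sub, map_pow, aeval_X, aeval_C]
      exact sub_self (x ^ p))) (X_pow_sub_C_ne_zero hp.pos _)).trans_eq natDegree_X_pow_sub_C
  rw [hk, natDegree_X_pow_sub_C] at h2
  rcases Nat.lt_or_ge 1 k with h1 | h1
  · exact absurd h2 (not_le.mpr (by simpa using Nat.pow_lt_pow_right hp.one_lt h1))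
  · rw [show k = 1 by omega, pow_one]

theorem exists_separable {A B K L : Type u} [CommRing A] [IsDomain A] [IsDiscreteValuationRing A]
    [CommRing B] [IsDomain B] [IsDiscreteValuationRing B] [Algebra A B] [IsLocalHom (algebraMap A B)]
    [Field K] [Field L] [Algebra A K] [IsFractionRing A K] [Algebra B L] [IsFractionRing B L]
    [Algebra K L] [Algebra A L] [IsScalarTower A K L] [IsScalarTower A B L]
    [Algebra.IsGeometricallyReduced K L] (hB : CAlg.IsNagata B) {p : ℕ} (hp : p.Prime) [CharP K p] :
    ∀ (n : ℕ) (K₂ : Type u) [Field K₂] [Algebra K K₂] [FiniteDimensional K K₂],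
      Field.finInsepDegree K K₂ = n → IsSolution B K L K₂ →
      ∃ (K₃ : Type u) (_ : Field K₃) (_ : Algebra K K₃) (_ : FiniteDimensional K K₃) (_ : Algebra.IsSeparable K K₃),
        IsSolution B K L K₃ := by
  haveI := Fact.mk hp
  haveI : ExpChar K p := ExpChar.prime hp
  intro n
  induction n using Nat.strong_induction_on with
  | _ n ih =>
    intro K₂ _ _ _ hn hsol
    by_cases hs : Algebra.IsSeparable K K₂
    · exact ⟨K₂, inferInstance, inferInstance, inferInstance, hs, hsol⟩
    obtain ⟨K₁, hdeg, hpi⟩ := exists_top_step hp hs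
    haveI := hpi
    obtain ⟨K₃, _, _, _, _, hfd, hsep, hsol₃⟩ := exists_separable_solution (A := A) hp hB hsol hdeg
    haveI := hfd
    haveI := hsep
    haveI : FiniteDimensional K K₃ := FiniteDimensional.trans K K₁ K₃
    refine ih _ ?_ K₃ rfl hsol₃
    have h3 := Field.finInsepDegree_mul_finInsepDegree_of_isAlgebraic K K₁ K₃
    have h2 := Field.finInsepDegree_mul_finInsepDegree_of_isAlgebraic K K₁ K₂
    have h3' : Field.finInsepDegree K₁ K₃ = 1 := by
      rw [Field.finInsepDegree, (separableClosure.eq_top_iff (F := K₁) (E := K₃)).mpr hsep,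
        IntermediateField.finrank_top]
    have h2' : Field.finInsepDegree K₁ K₂ = p := by
      rw [IsPurelyInseparable.finInsepDegree_eq, hdeg]
    haveI : NeZero (Field.finInsepDegree K K₁) := inferInstance
    rw [h3', mul_one] at h3
    rw [h2', hn] at h2
    rw [← h3]
    calc Field.finInsepDegree K K₁ = Field.finInsepDegree K K₁ * 1 := (mul_one _).symm
      _ < Field.finInsepDegree K K₁ * p := Nat.mul_lt_mul_of_pos_left hp.one_lt (Nat.pos_of_neZero _)
      _ = n := h2

end Groth.L19.EtSep
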