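import Groth.Agent.L19.EtSep.Local
import Groth.Agent.L01.NagataFiniteType
import Mathlib.LinearAlgebra.Dual.Lemmas
import Mathlib.FieldTheory.IsAlgClosed.AlgebraicClosure
import Mathlib.FieldTheory.SeparableDegree

/-! # Replacing a purely inseparable step of a solution by a separable one -/

set_option autoImplicit false
set_option linter.style.haveILetI false
set_option maxSynthPendingDepth 3

universe u

open IsLocalRing Polynomial TensorProduct

namespace Groth.L19.EtSep

open EtRam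

theorem exists_pow_mem_range {p : ℕ} (hp : p.Prime) {F E : Type u} [Field F] [Field E] [Algebra F E]
    [ExpChar F p] [IsPurelyInseparable F E] (hdeg : Module.finrank F E = p) (x : E) :
    ∃ y : F, algebraMap F E y = x ^ p := by
  haveI : FiniteDimensional F E := Module.finite_of_finrank_pos (hdeg ▸ hp.pos)
  obtain ⟨k, y, hk⟩ := IsPurelyInseparable.minpoly_eq_X_pow_sub_C F p x
  have hd := minpoly.degree_dvd (K := F) (IsIntegral.of_finite F x)
  rw [hdeg, hk, natDegree_X_pow_sub_C] at hd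
  have h0 := minpoly.aeval F x
  rw [hk] at h0
  simp only [map_sub, map_pow, aeval_X, aeval_C, sub_eq_zero] at h0
  rcases (Nat.dvd_prime hp).mp hd with h | h
  · rw [h, pow_one] at h0; exact ⟨y ^ p, by rw [map_pow, h0]⟩
  · rw [h] at h0; exact ⟨y, h0.symm⟩

/-- A `p`-th root outside the base does not appear in a geometrically reduced extension. -/
theorem pow_ne_of_geomReduced {p : ℕ} (hp : p.Prime) {F E M : Type u} [Field F] [Field E] [Field M]
    [Algebra F E] [Algebra F M] [CharP F p] [Algebra.IsGeometricallyReduced F M] (α : E) (a : F)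
    (hα : α ^ p = algebraMap F E a) (hαn : α ∉ Set.range (algebraMap F E)) (b : M) :
    b ^ p ≠ algebraMap F M a := by
  haveI := Fact.mk hp
  intro hb
  haveI : _root_.IsReduced (E ⊗[F] M) := Groth.L03.GeomReduced2.isReduced_of_isGeometricallyReduced E
  haveI : CharP (E ⊗[F] M) p := by
    haveI : Nontrivial (E ⊗[F] M) :=
      (Algebra.TensorProduct.includeLeft_injective (S := F) (RingHom.injective (algebraMap F M))).nontrivial
    exact charP_of_injective_algebraMap (algebraMap F (E ⊗[F] M)).injective p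
  have hn : α ⊗ₜ[F] (1 : M) - (1 : E) ⊗ₜ[F] b = 0 := by
    refine IsNilpotent.eq_zero ⟨p, ?_⟩
    rw [sub_pow_char, Algebra.TensorProduct.tmul_pow, Algebra.TensorProduct.tmul_pow, one_pow, one_pow, hα, hb,
      Algebra.algebraMap_eq_smul_one, Algebra.algebraMap_eq_smul_one, smul_tmul, sub_self]
  have hnm : α ∉ Submodule.span F ({1} : Set E) := fun h => by
    obtain ⟨c, hc⟩ := Submodule.mem_span_singleton.mp h
    exact hαn ⟨c, by rw [Algebra.algebraMap_eq_smul_one, hc]⟩
  obtain ⟨f, hf, hf1⟩ := Submodule.exists_dual_map_eq_bot_of_notMem hnm inferInstance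
  have hf1' : f 1 = 0 := by
    have h : f 1 ∈ (Submodule.span F ({1} : Set E)).map f :=
      Submodule.mem_map_of_mem (Submodule.mem_span_singleton_self 1)
    rwa [hf1, Submodule.mem_bot] at h
  have h2 := congrArg ((TensorProduct.lid F M).toLinearMap ∘ₗ LinearMap.rTensor M f) hn
  simp [hf1'] at h2
  exact hf h2

theorem exists_separable_solution {p : ℕ} (hp : p.Prime) {A B K L : Type u}
    [CommRing A] [IsDomain A] [IsDiscreteValuationRing A] [CommRing B] [IsDomain B] [IsDiscreteValuationRing B]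
    [Algebra A B] [IsLocalHom (algebraMap A B)]
    [Field K] [Field L] [Algebra A K] [IsFractionRing A K] [Algebra B L] [IsFractionRing B L]
    [Algebra K L] [Algebra A L] [IsScalarTower A K L] [IsScalarTower A B L] [CharP K p]
    [Algebra.IsGeometricallyReduced K L] (hB : CAlg.IsNagata B)
    {K₁ K₂ : Type u} [Field K₁] [Field K₂] [Algebra K K₁] [Algebra K K₂] [Algebra K₁ K₂] [IsScalarTower K K₁ K₂]
    [FiniteDimensional K K₁] [FiniteDimensional K₁ K₂] (hsol : IsSolution B K L K₂)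
    [IsPurelyInseparable K₁ K₂] (hdeg : Module.finrank K₁ K₂ = p) :
    ∃ (K₃ : Type u) (_ : Field K₃) (_ : Algebra K K₃) (_ : Algebra K₁ K₃) (_ : IsScalarTower K K₁ K₃),
      FiniteDimensional K₁ K₃ ∧ Algebra.IsSeparable K₁ K₃ ∧ IsSolution B K L K₃ := by
  classical
  haveI := Fact.mk hp
  haveI : CharP K₁ p := charP_of_injective_algebraMap (algebraMap K K₁).injective p
  haveI : CharP L p := charP_of_injective_algebraMap (algebraMap K L).injective p
  haveI : ExpChar K₁ p := ExpChar.prime hp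
  have hN2 := Groth.L01.Nagata.isN2_of_isNagata hB
  -- a generator with integral `p`-th power
  obtain ⟨α₀, hα₀⟩ : ∃ α : K₂, α ∉ Set.range (algebraMap K₁ K₂) := by
    by_contra h
    push Not at h
    have h1 : (⊥ : Subalgebra K₁ K₂) = ⊤ := eq_top_iff.mpr fun x _ => Algebra.mem_bot.mpr (h x)
    have h2 := Subalgebra.bot_eq_top_iff_finrank_eq_one.mp h1
    rw [hdeg] at h2
    exact hp.one_lt.ne' h2
  obtain ⟨a₀, ha₀⟩ := exists_pow_mem_range hp hdeg α₀
  letI : Algebra A K₁ := ((algebraMap K K₁).comp (algebraMap A K)).toAlgebra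
  haveI : IsScalarTower A K K₁ := IsScalarTower.of_algebraMap_eq fun _ => rfl
  obtain ⟨⟨d, hd⟩, hda⟩ := IsIntegral.exists_multiple_integral_of_isLocalization (nonZeroDivisors A) a₀
    (IsIntegral.of_finite K a₀)
  set d₁ := algebraMap A K₁ d with hd₁
  obtain ⟨α, hαdef⟩ : ∃ α : K₂, α = algebraMap K₁ K₂ d₁ * α₀ := ⟨_, rfl⟩
  obtain ⟨a, hadef⟩ : ∃ a : K₁, a = d₁ ^ p * a₀ := ⟨_, rfl⟩
  have hα : α ^ p = algebraMap K₁ K₂ a := by rw [hαdef, hadef, mul_pow, ← ha₀, map_mul, map_pow]
  have ha_int : RingHom.IsIntegralElem ((algebraMap K K₁).comp (algebraMap A K)) a := by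
    have h : IsIntegral A (d₁ ^ (p - 1) * (d₁ * a₀)) := by
      refine (isIntegral_algebraMap.pow _).mul ?_
      rwa [Submonoid.smul_def, Algebra.smul_def] at hda
    rw [← mul_assoc, ← pow_succ, Nat.sub_add_cancel hp.pos, ← hadef] at h
    exact h
  have hd0 : d₁ ≠ 0 := fun h => nonZeroDivisors.ne_zero hd (((algebraMap K K₁).injective.comp
    (IsFractionRing.injective A K)) (h.trans (by simp)))
  have hαn : α ∉ Set.range (algebraMap K₁ K₂) := by
    rintro ⟨k, hk⟩
    refine hα₀ ⟨k / d₁, ?_⟩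
    rw [map_div₀, hk, hαdef, mul_div_cancel_left₀]
    exact (_root_.map_ne_zero _).mpr hd0
  obtain ⟨πA, hπA⟩ := IsDiscreteValuationRing.exists_irreducible A
  obtain ⟨π, hπ⟩ := IsDiscreteValuationRing.exists_irreducible B
  -- the factors of `L ⊗ K₁`
  let R := L ⊗[K] K₁
  haveI : IsArtinianRing R := IsArtinianRing.of_finite L R
  haveI : Finite (MaximalSpectrum R) := inferInstance
  have hbound : ∀ m : MaximalSpectrum R, ∃ r : ℕ,
      letI := m.isMaximal
      letI : Field (R ⧸ m.asIdeal) := Ideal.Quotient.field m.asIdeal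
      (∀ b : R ⧸ m.asIdeal, b ^ p ≠ Ideal.Quotient.mk m.asIdeal ((1 : L) ⊗ₜ a)) ∧
      ∀ (W : ValuationSubring (R ⧸ m.asIdeal)), Dominates B (algebraMap B (R ⧸ m.asIdeal)) W →
        ∀ c : Fin p → R ⧸ m.asIdeal, ∀ i,
          W.valuation (c i) ^ p * W.valuation (algebraMap B (R ⧸ m.asIdeal) π) ^ ((r + 1) * p) ≤
            W.valuation (∑ j, c j ^ p * Ideal.Quotient.mk m.asIdeal ((1 : L) ⊗ₜ a) ^ (j : ℕ)) := by
    intro m
    haveI := m.isMaximal
    letI : Field (R ⧸ m.asIdeal) := Ideal.Quotient.field m.asIdeal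
    haveI : IsScalarTower B L (R ⧸ m.asIdeal) := inferInstance
    haveI : CharP (R ⧸ m.asIdeal) p := charP_of_injective_algebraMap (algebraMap L (R ⧸ m.asIdeal)).injective p
    letI : Algebra K₁ (R ⧸ m.asIdeal) :=
      ((Ideal.Quotient.mk m.asIdeal).comp (Algebra.TensorProduct.includeRight : K₁ →ₐ[K] R).toRingHom).toAlgebra
    haveI : IsScalarTower K K₁ (R ⧸ m.asIdeal) := IsScalarTower.of_algebraMap_eq fun k => by
      show _ = Ideal.Quotient.mk m.asIdeal (Algebra.TensorProduct.includeRight (algebraMap K K₁ k))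
      rw [AlgHom.commutes]
      rfl
    let g : K₁ ⊗[K] L →ₐ[K₁] R ⧸ m.asIdeal :=
      Algebra.TensorProduct.lift (Algebra.ofId K₁ _) (IsScalarTower.toAlgHom K L (R ⧸ m.asIdeal))
        fun _ _ => Commute.all _ _
    have hg : Function.Surjective g := fun y => by
      obtain ⟨r, rfl⟩ := Ideal.Quotient.mk_surjective y
      induction r using TensorProduct.induction_on with
      | zero => exact ⟨0, (map_zero g).trans (map_zero _).symm⟩
      | add x y hx hy =>
        obtain ⟨u, hu⟩ := hx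
        obtain ⟨v, hv⟩ := hy
        exact ⟨u + v, by rw [map_add, hu, hv, map_add]⟩
      | tmul l k =>
        refine ⟨k ⊗ₜ l, ?_⟩
        rw [Algebra.TensorProduct.lift_tmul]
        show Ideal.Quotient.mk m.asIdeal ((1 : L) ⊗ₜ k) * Ideal.Quotient.mk m.asIdeal (l ⊗ₜ (1 : K₁)) = _
        rw [← map_mul, Algebra.TensorProduct.tmul_mul_tmul, one_mul, mul_one]
    haveI : Algebra.IsGeometricallyReduced K₁ (R ⧸ m.asIdeal) :=
      Groth.L05.SepResidueSol.geomReduced_of_surjective K K₁ L (R ⧸ m.asIdeal) g hg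
    have hne : ∀ b : R ⧸ m.asIdeal, b ^ p ≠ Ideal.Quotient.mk m.asIdeal ((1 : L) ⊗ₜ a) :=
      fun b => pow_ne_of_geomReduced hp α a hα hαn b
    haveI : FiniteDimensional L (R ⧸ m.asIdeal) :=
      Module.Finite.of_surjective (Ideal.Quotient.mkₐ L m.asIdeal).toLinearMap Ideal.Quotient.mk_surjective
    obtain ⟨r, hr⟩ := exists_bound (L := L) hp hN2 hne hπ
    exact ⟨r, hne, hr⟩
  choose r hrne hr using hbound
  haveI : Fintype (MaximalSpectrum R) := Fintype.ofFinite _
  set N := (Finset.univ.sup r + 1) * p + 1 with hNdef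
  -- the separable extension
  set c : K₁ := algebraMap K K₁ (algebraMap A K πA) ^ N with hcdef
  have hc0 : c ≠ 0 := pow_ne_zero _ ((_root_.map_ne_zero _).mpr
    ((_root_.map_ne_zero_iff _ (IsFractionRing.injective A K)).mpr hπA.ne_zero))
  set f : K₁[X] := X ^ p - C c * X - C a with hfdef
  have hfd : f.natDegree = p := by
    rw [hfdef, natDegree_sub_C, natDegree_sub_eq_left_of_natDegree_lt]
    · exact natDegree_X_pow p
    · rw [natDegree_X_pow, natDegree_C_mul_X _ hc0]; exact hp.one_lt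
  have hf0 : f ≠ 0 := fun h => hp.ne_zero (by rw [← hfd, h, natDegree_zero])
  have hfsep : f.Separable := by
    rw [separable_def, hfdef, derivative_sub, derivative_sub, derivative_X_pow, derivative_C_mul_X, derivative_C,
      CharP.cast_eq_zero, map_zero, zero_mul, zero_sub, sub_zero]
    obtain ⟨u, hu⟩ := (isUnit_C.mpr (Ne.isUnit hc0)).neg
    exact ⟨0, ↑u⁻¹, by rw [← hu]; simp⟩
  let Ω := AlgebraicClosure K₁
  obtain ⟨θ₀, hθ₀⟩ := IsAlgClosed.exists_aeval_eq_zero Ω f (by
    rw [degree_eq_natDegree hf0, hfd]; exact_mod_cast hp.ne_zero)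
  have hint : IsIntegral K₁ θ₀ := Algebra.IsIntegral.isIntegral θ₀
  set K₃ := IntermediateField.adjoin K₁ ({θ₀} : Set Ω)
  let θ : K₃ := ⟨θ₀, IntermediateField.mem_adjoin_simple_self K₁ θ₀⟩
  haveI : FiniteDimensional K₁ K₃ := IntermediateField.adjoin.finiteDimensional hint
  haveI : Algebra.IsSeparable K₁ K₃ :=
    (IntermediateField.isSeparable_adjoin_simple_iff_isSeparable K₁ Ω).mpr
      (hfsep.of_dvd (minpoly.dvd K₁ θ₀ hθ₀))
  have hθ : θ ^ p = algebraMap K₁ K₃ a + algebraMap K K₃ (algebraMap A K πA) ^ N * θ := by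
    apply Subtype.ext
    have h : aeval θ₀ f = 0 := hθ₀
    rw [hfdef, map_sub, map_sub, map_pow, map_mul, aeval_X, aeval_C, aeval_C, hcdef, map_pow,
      ← IsScalarTower.algebraMap_apply K K₁ Ω] at h
    show θ₀ ^ p = algebraMap K₁ Ω a + algebraMap K Ω (algebraMap A K πA) ^ N * θ₀
    linear_combination h
  have hrepr : ∀ y : K₃, ∃ e : Fin p → K₁, y = ∑ j, algebraMap K₁ K₃ (e j) * θ ^ (j : ℕ) := by
    intro y
    have hy : (y : Ω) ∈ (IntermediateField.adjoin K₁ ({θ₀} : Set Ω)).toSubalgebra := y.2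
    rw [IntermediateField.adjoin_simple_toSubalgebra_of_isAlgebraic hint.isAlgebraic,
      Algebra.adjoin_singleton_eq_range_aeval] at hy
    obtain ⟨Q, hQ⟩ := hy
    have hd : (Q % f).natDegree < p := hfd ▸ natDegree_mod_lt Q (by rw [hfd]; exact hp.ne_zero)
    refine ⟨fun j => (Q % f).coeff j, Subtype.ext ?_⟩
    have h1 : aeval θ₀ (Q % f) = y := by
      rw [EuclideanDomain.mod_eq_sub_mul_div, map_sub, map_mul, hθ₀, zero_mul, sub_zero]
      exact hQ
    rw [← h1, aeval_eq_sum_range' hd, ← Fin.sum_univ_eq_sum_range (fun j => (Q % f).coeff j • θ₀ ^ j) p]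
    push_cast
    exact Finset.sum_congr rfl fun j _ => Algebra.smul_def _ _
  refine ⟨K₃, inferInstance, inferInstance, inferInstance, inferInstance, inferInstance, inferInstance, ?_⟩
  intro M _ _ _ _ _ _ hgen W hW
  let f₁ : K₁ →ₐ[K] M := (IsScalarTower.toAlgHom K K₃ M).comp (IsScalarTower.toAlgHom K K₁ K₃)
  let q : R →ₐ[L] M := Algebra.TensorProduct.lift (Algebra.ofId L M) f₁ fun _ _ => Commute.all _ _
  haveI : (RingHom.ker q).IsPrime := RingHom.ker_isPrime q
  let m : MaximalSpectrum R := ⟨RingHom.ker q, IsArtinianRing.isMaximal_of_isPrime _⟩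
  haveI := m.isMaximal
  letI : Field (R ⧸ m.asIdeal) := Ideal.Quotient.field m.asIdeal
  haveI : IsScalarTower B L (R ⧸ m.asIdeal) := inferInstance
  haveI : CharP (R ⧸ m.asIdeal) p := charP_of_injective_algebraMap (algebraMap L (R ⧸ m.asIdeal)).injective p
  letI : Algebra K₁ (R ⧸ m.asIdeal) :=
    ((Ideal.Quotient.mk m.asIdeal).comp (Algebra.TensorProduct.includeRight : K₁ →ₐ[K] R).toRingHom).toAlgebra
  haveI : IsScalarTower K K₁ (R ⧸ m.asIdeal) := IsScalarTower.of_algebraMap_eq fun k => by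
    show _ = Ideal.Quotient.mk m.asIdeal (Algebra.TensorProduct.includeRight (algebraMap K K₁ k))
    rw [AlgHom.commutes]
    rfl
  haveI : FiniteDimensional L (R ⧸ m.asIdeal) :=
    Module.Finite.of_surjective (Ideal.Quotient.mkₐ L m.asIdeal).toLinearMap Ideal.Quotient.mk_surjective
  have hM₁ : Algebra.adjoin L (Set.range (algebraMap K₁ (R ⧸ m.asIdeal))) = ⊤ := by
    rw [eq_top_iff]
    intro y hy
    clear hy
    obtain ⟨z, rfl⟩ := Ideal.Quotient.mk_surjective y
    induction z using TensorProduct.induction_on with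
    | zero => rw [map_zero]; exact zero_mem _
    | add x y hx hy => rw [map_add]; exact add_mem hx hy
    | tmul l k =>
      rw [show l ⊗ₜ[K] k = (l ⊗ₜ[K] (1 : K₁)) * ((1 : L) ⊗ₜ[K] k) by
        rw [Algebra.TensorProduct.tmul_mul_tmul, one_mul, mul_one], map_mul]
      exact mul_mem (Subalgebra.algebraMap_mem _ l) (Algebra.subset_adjoin ⟨k, rfl⟩)
  let ψ : R ⧸ m.asIdeal →+* M := Ideal.Quotient.lift m.asIdeal q.toRingHom fun _ h => h
  letI : Algebra (R ⧸ m.asIdeal) M := ψ.toAlgebra
  haveI : IsScalarTower L (R ⧸ m.asIdeal) M := IsScalarTower.of_algebraMap_eq fun l => by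
    show _ = ψ (Ideal.Quotient.mk m.asIdeal (l ⊗ₜ (1 : K₁)))
    simp only [ψ, q, Ideal.Quotient.lift_mk]
    erw [Algebra.TensorProduct.lift_tmul]
    simp
  have hcompat : ∀ y : K₁, algebraMap (R ⧸ m.asIdeal) M (algebraMap K₁ (R ⧸ m.asIdeal) y) =
      algebraMap K₃ M (algebraMap K₁ K₃ y) := fun y => by
    show ψ (Ideal.Quotient.mk m.asIdeal ((1 : L) ⊗ₜ y)) = _
    simp only [ψ, q, f₁, Ideal.Quotient.lift_mk]
    erw [Algebra.TensorProduct.lift_tmul]
    simp
  set θ' := algebraMap K₃ M θ with hθ'def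
  have hM : ∀ x : M, ∃ e : Fin p → R ⧸ m.asIdeal,
      x = ∑ j, algebraMap (R ⧸ m.asIdeal) M (e j) * θ' ^ (j : ℕ) := by
    intro x
    have hx : x ∈ Algebra.adjoin (R ⧸ m.asIdeal) ({θ'} : Set M) := by
      have h1 : x ∈ Algebra.adjoin L (Set.range (algebraMap K₃ M)) := hgen ▸ Algebra.mem_top
      induction h1 using Algebra.adjoin_induction with
      | mem z hz =>
        obtain ⟨w, rfl⟩ := hz
        obtain ⟨e, rfl⟩ := hrepr w
        rw [map_sum]
        refine sum_mem fun j _ => ?_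
        rw [map_mul, map_pow, ← hcompat]
        exact mul_mem (Subalgebra.algebraMap_mem _ _) (pow_mem (Algebra.self_mem_adjoin_singleton _ _) _)
      | algebraMap l => rw [IsScalarTower.algebraMap_apply L (R ⧸ m.asIdeal) M]; exact Subalgebra.algebraMap_mem _ _
      | add _ _ _ _ h1 h2 => exact add_mem h1 h2
      | mul _ _ _ _ h1 h2 => exact mul_mem h1 h2
    rw [Algebra.adjoin_singleton_eq_range_aeval] at hx
    obtain ⟨Q, hQ⟩ := hx
    set F := f.map (algebraMap K₁ (R ⧸ m.asIdeal)) with hF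
    have hFd : F.natDegree = p := by rw [hF, natDegree_map, hfd]
    have hFθ : aeval θ' F = 0 := by
      have h := congrArg (algebraMap K₃ M) hθ
      rw [map_pow, map_add, map_mul, map_pow, ← hcompat, ← hθ'def, IsScalarTower.algebraMap_apply K K₁ K₃,
        ← hcompat, ← map_pow (algebraMap (R ⧸ m.asIdeal) M), ← map_pow (algebraMap K₁ (R ⧸ m.asIdeal)), ← hcdef] at h
      simp only [hF, hfdef, Polynomial.map_sub, Polynomial.map_mul, Polynomial.map_pow, map_X, map_C, map_sub,
        map_mul, map_pow, aeval_X, aeval_C]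
      linear_combination h
    have hd : (Q % F).natDegree < p := hFd ▸ natDegree_mod_lt Q (by rw [hFd]; exact hp.ne_zero)
    refine ⟨fun j => (Q % F).coeff j, ?_⟩
    have h1 : aeval θ' (Q % F) = x := by
      rw [EuclideanDomain.mod_eq_sub_mul_div, map_sub, map_mul, hFθ, zero_mul, sub_zero]
      exact hQ
    rw [← h1, aeval_eq_sum_range' hd, ← Fin.sum_univ_eq_sum_range (fun j => (Q % F).coeff j • θ' ^ j) p]
    exact Finset.sum_congr rfl fun j _ => Algebra.smul_def _ _
  exact local_solution hp hsol hdeg α a hα ha_int hM₁ (hrne m) hπA hπ (r m) (hr m) N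
    (by rw [hNdef]; have := Finset.le_sup (f := r) (Finset.mem_univ m); nlinarith [hp.pos])
    θ hθ hrepr hcompat hM W hW

end Groth.L19.EtSep
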