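import Groth.Agent.L19.EtSep.Bound
import Groth.Agent.L19.EtAS.Main
import Groth.Agent.L05.SepResidueSol.Main

/-! # A separable deformation of a purely inseparable solution is a solution -/

set_option autoImplicit false
set_option linter.style.haveILetI false

universe u

open IsLocalRing Polynomial

namespace Groth.L19.EtSep

open EtRam

theorem pow_add_mul_mem {E : Type u} [Field E] (W : ValuationSubring E) {a c θ : E} (ha : a ∈ W) (hc : c ∈ W)
    (hθ : θ ∈ W) (j : ℕ) : ∃ w ∈ W, (a + c * θ) ^ j = a ^ j + c * w := by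
  induction j with
  | zero => exact ⟨0, zero_mem _, by simp⟩
  | succ j ih =>
    obtain ⟨w, hw, h⟩ := ih
    refine ⟨w * (a + c * θ) + a ^ j * θ, add_mem (mul_mem hw (add_mem ha (mul_mem hc hθ)))
      (mul_mem (pow_mem ha _) hθ), ?_⟩
    rw [pow_succ, h, pow_succ]
    ring

theorem mem_of_integral' {A E : Type u} [CommRing A] [Field E] (W : ValuationSubring E) (g : A →+* E)
    (hA : ∀ a, g a ∈ W) {x : E} (hx : RingHom.IsIntegralElem g x) : x ∈ W := by
  letI : Algebra A W := (RingHom.codRestrict g W.toSubring hA).toAlgebra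
  letI : Algebra A E := g.toAlgebra
  haveI : IsScalarTower A W E := IsScalarTower.of_algebraMap_eq fun _ => rfl
  have hx' : IsIntegral A x := hx
  obtain ⟨y, hy⟩ := IsIntegrallyClosedIn.isIntegral_iff.mp (hx'.tower_top (A := W))
  exact hy ▸ y.2

theorem local_solution {p : ℕ} (hp : p.Prime) {A B K L : Type u}
    [CommRing A] [IsDomain A] [IsDiscreteValuationRing A] [CommRing B] [IsDomain B] [IsDiscreteValuationRing B]
    [Algebra A B] [IsLocalHom (algebraMap A B)]
    [Field K] [Field L] [Algebra A K] [IsFractionRing A K] [Algebra B L] [IsFractionRing B L]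
    [Algebra K L] [Algebra A L] [IsScalarTower A K L] [IsScalarTower A B L]
    {K₁ K₂ : Type u} [Field K₁] [Field K₂] [Algebra K K₁] [Algebra K K₂] [Algebra K₁ K₂]
    [IsScalarTower K K₁ K₂] [FiniteDimensional K K₁] [FiniteDimensional K₁ K₂]
    (hsol : IsSolution B K L K₂) (hdeg : Module.finrank K₁ K₂ = p)
    (α : K₂) (a : K₁) (hα : α ^ p = algebraMap K₁ K₂ a)
    (ha₁ : RingHom.IsIntegralElem ((algebraMap K K₁).comp (algebraMap A K)) a)
    {M₁ : Type u} [Field M₁] [Algebra L M₁] [Algebra K₁ M₁] [Algebra K M₁] [IsScalarTower K L M₁]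
    [IsScalarTower K K₁ M₁] [Algebra B M₁] [IsScalarTower B L M₁] [CharP M₁ p] [FiniteDimensional L M₁]
    (hM₁ : Algebra.adjoin L (Set.range (algebraMap K₁ M₁)) = ⊤)
    (ha : ∀ b : M₁, b ^ p ≠ algebraMap K₁ M₁ a) {πA : A} (hπA : Irreducible πA) {π : B} (hπ : Irreducible π)
    (r : ℕ) (hr : ∀ (W : ValuationSubring M₁), Dominates B (algebraMap B M₁) W →
      ∀ c : Fin p → M₁, ∀ i, W.valuation (c i) ^ p * W.valuation (algebraMap B M₁ π) ^ ((r + 1) * p) ≤
        W.valuation (∑ j, c j ^ p * algebraMap K₁ M₁ a ^ (j : ℕ)))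
    (N : ℕ) (hN : (r + 1) * p < N)
    {K₃ : Type u} [Field K₃] [Algebra K K₃] [Algebra K₁ K₃] [IsScalarTower K K₁ K₃] [FiniteDimensional K₁ K₃]
    (θ : K₃) (hθ : θ ^ p = algebraMap K₁ K₃ a + algebraMap K K₃ (algebraMap A K πA) ^ N * θ)
    (hK₃ : ∀ y : K₃, ∃ c : Fin p → K₁, y = ∑ j, algebraMap K₁ K₃ (c j) * θ ^ (j : ℕ))
    {M : Type u} [Field M] [Algebra K M] [Algebra L M] [Algebra K₃ M] [IsScalarTower K L M] [IsScalarTower K K₃ M]
    [Algebra M₁ M] [IsScalarTower L M₁ M]
    (hcompat : ∀ y : K₁, algebraMap M₁ M (algebraMap K₁ M₁ y) = algebraMap K₃ M (algebraMap K₁ K₃ y))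
    (hM : ∀ m : M, ∃ c : Fin p → M₁, m = ∑ j, algebraMap M₁ M (c j) * algebraMap K₃ M θ ^ (j : ℕ))
    (W : ValuationSubring M) (hW : Dominates B ((algebraMap L M).comp (algebraMap B L)) W) :
    letI : Algebra (W.comap (algebraMap K₃ M)) W := (inclOfComap W (algebraMap K₃ M)).toAlgebra
    IsWeaklyUnramified (W.comap (algebraMap K₃ M)) W ∧
      @Algebra.IsGeometricallyReduced (ResidueField (W.comap (algebraMap K₃ M))) (ResidueField W) _ _
        (ResidueField.map (inclOfComap W (algebraMap K₃ M))).toAlgebra := by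
  classical
  haveI := Fact.mk hp
  haveI : CharP M p := charP_of_injective_algebraMap (algebraMap M₁ M).injective p
  haveI : FiniteDimensional K K₂ := FiniteDimensional.trans K K₁ K₂
  haveI : FiniteDimensional K K₃ := FiniteDimensional.trans K K₁ K₃
  -- the field `M₂`
  set a₁ := algebraMap K₁ M₁ a with ha₁def
  have hirr : Irreducible (X ^ p - C a₁) := X_pow_sub_C_irreducible_of_prime hp ha
  haveI := Fact.mk hirr
  let M₂ := AdjoinRoot (X ^ p - C a₁)
  let α₂ : M₂ := AdjoinRoot.root (X ^ p - C a₁)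
  let φ : M₂ →+* M₁ := AdjoinRoot.lift (frobenius M₁ p) a₁ (by
    rw [eval₂_sub, eval₂_X_pow, eval₂_C, frobenius_def, sub_self])
  have hφC : ∀ m : M₁, φ (algebraMap M₁ M₂ m) = m ^ p := fun m => AdjoinRoot.lift_of _
  have hφα : φ α₂ = a₁ := AdjoinRoot.lift_root _
  -- `K₂` inside `M₂`
  have hirr₁ : Irreducible (X ^ p - C a) := X_pow_sub_C_irreducible_of_prime hp fun b hb =>
    ha (algebraMap K₁ M₁ b) (by rw [← map_pow, hb])
  haveI := Fact.mk hirr₁
  let e₀ : AdjoinRoot (X ^ p - C a) →+* K₂ := AdjoinRoot.lift (algebraMap K₁ K₂) α (by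
    rw [eval₂_sub, eval₂_X_pow, eval₂_C, hα, sub_self])
  let pb := AdjoinRoot.powerBasis hirr₁.ne_zero
  have he₀ : Function.Bijective e₀ := by
    refine ⟨e₀.injective, ?_⟩
    haveI : FiniteDimensional K₁ (AdjoinRoot (X ^ p - C a)) := pb.finite
    let el : AdjoinRoot (X ^ p - C a) →ₐ[K₁] K₂ := { e₀ with commutes' := fun k => AdjoinRoot.lift_of _ }
    exact (LinearMap.injective_iff_surjective_of_finrank_eq_finrank (f := el.toLinearMap)
      (by rw [hdeg, pb.finrank]; exact natDegree_X_pow_sub_C)).mp e₀.injective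
  let e := RingEquiv.ofBijective e₀ he₀
  have hα' : e (AdjoinRoot.root (X ^ p - C a)) = α := by
    simp only [e, RingEquiv.ofBijective_apply]
    exact AdjoinRoot.lift_root _
  let ι₂ : K₂ →+* M₂ := (AdjoinRoot.lift ((algebraMap M₁ M₂).comp (algebraMap K₁ M₁)) α₂ (by
    rw [eval₂_sub, eval₂_X_pow, eval₂_C, RingHom.comp_apply]
    have h : aeval α₂ (X ^ p - C a₁ : M₁[X]) = 0 := by
      show aeval (AdjoinRoot.root (X ^ p - C a₁)) (X ^ p - C a₁) = 0
      rw [AdjoinRoot.aeval_eq]; exact AdjoinRoot.mk_self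
    rwa [map_sub, map_pow, aeval_X, aeval_C] at h)).comp e.symm.toRingHom
  have hι₂α : ι₂ α = α₂ := by
    rw [← hα']
    simp only [ι₂, RingHom.comp_apply, RingEquiv.toRingHom_eq_coe, RingEquiv.coe_toRingHom, RingEquiv.symm_apply_apply]
    exact AdjoinRoot.lift_root _
  have hof : ∀ k : K₁, e (AdjoinRoot.of (X ^ p - C a) k) = algebraMap K₁ K₂ k := fun k => by
    simp only [e, RingEquiv.ofBijective_apply]
    exact AdjoinRoot.lift_of _
  have hι₂C : ∀ k : K₁, ι₂ (algebraMap K₁ K₂ k) = algebraMap M₁ M₂ (algebraMap K₁ M₁ k) := fun k => by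
    have hk : e (AdjoinRoot.of _ k) = algebraMap K₁ K₂ k := hof k
    rw [← hk]
    simp only [ι₂, RingHom.comp_apply, RingEquiv.toRingHom_eq_coe, RingEquiv.coe_toRingHom, RingEquiv.symm_apply_apply]
    exact AdjoinRoot.lift_of _
  letI : Algebra K₂ M₂ := ι₂.toAlgebra
  haveI : IsScalarTower K K₂ M₂ := IsScalarTower.of_algebraMap_eq fun k => by
    show _ = ι₂ _
    rw [IsScalarTower.algebraMap_apply K K₁ K₂, hι₂C, ← IsScalarTower.algebraMap_apply K K₁ M₁,
      ← IsScalarTower.algebraMap_apply K M₁ M₂]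
  haveI : IsScalarTower K L M₂ := IsScalarTower.of_algebraMap_eq fun k => by
    rw [IsScalarTower.algebraMap_apply L M₁ M₂, ← IsScalarTower.algebraMap_apply K L M₁,
      ← IsScalarTower.algebraMap_apply K M₁ M₂]
  have hα₂mem : α₂ ∈ Algebra.adjoin L (Set.range (algebraMap K₂ M₂)) := Algebra.subset_adjoin ⟨α, hι₂α⟩
  have hgen₂ : Algebra.adjoin L (Set.range (algebraMap K₂ M₂)) = ⊤ := by
    rw [eq_top_iff]
    intro z hz
    clear hz
    have hM₁mem : ∀ m : M₁, algebraMap M₁ M₂ m ∈ Algebra.adjoin L (Set.range (algebraMap K₂ M₂)) := by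
      intro m
      have hm : m ∈ Algebra.adjoin L (Set.range (algebraMap K₁ M₁)) := hM₁ ▸ Algebra.mem_top
      induction hm using Algebra.adjoin_induction with
      | mem y hy => obtain ⟨k, rfl⟩ := hy; exact Algebra.subset_adjoin ⟨algebraMap K₁ K₂ k, hι₂C k⟩
      | algebraMap l => rw [← IsScalarTower.algebraMap_apply]; exact Subalgebra.algebraMap_mem _ l
      | add _ _ _ _ h1 h2 => rw [map_add]; exact add_mem h1 h2
      | mul _ _ _ _ h1 h2 => rw [map_mul]; exact mul_mem h1 h2
    induction z using AdjoinRoot.induction_on with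
    | ih P =>
      induction P using Polynomial.induction_on' with
      | add P Q h1 h2 => rw [map_add]; exact add_mem h1 h2
      | monomial n m =>
        rw [← C_mul_X_pow_eq_monomial, map_mul, map_pow, AdjoinRoot.mk_C, AdjoinRoot.mk_X]
        exact mul_mem (hM₁mem m) (pow_mem hα₂mem n)
  -- the valuation rings
  let Φ : M₂ →+* M := (algebraMap M₁ M).comp φ
  set W₁ := W.comap (algebraMap M₁ M) with hW₁def
  set W₂ := W.comap Φ with hW₂def
  set gB : B →+* M := (algebraMap L M).comp (algebraMap B L) with hgB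
  have hgB₁ : ∀ b : B, algebraMap M₁ M (algebraMap B M₁ b) = gB b := fun b => by
    rw [IsScalarTower.algebraMap_apply B L M₁, ← IsScalarTower.algebraMap_apply L M₁ M]; rfl
  have hgB₂ : ∀ b : B, Φ (algebraMap L M₂ (algebraMap B L b)) = gB b ^ p := fun b => by
    show algebraMap M₁ M (φ _) = _
    rw [IsScalarTower.algebraMap_apply L M₁ M₂, hφC, map_pow, ← IsScalarTower.algebraMap_apply L M₁ M]
    rfl
  have hW₁ : Dominates B (algebraMap B M₁) W₁ :=
    Groth.L19.EtAS.dominates_comap (algebraMap M₁ M) (algebraMap B M₁) W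
      ⟨fun b => by rw [RingHom.comp_apply, hgB₁]; exact hW.1 b,
        fun b hb => by rw [RingHom.comp_apply, hgB₁]; exact hW.2 b hb⟩
  have hW₂ : Dominates B ((algebraMap L M₂).comp (algebraMap B L)) W₂ :=
    Groth.L19.EtAS.dominates_comap Φ ((algebraMap L M₂).comp (algebraMap B L)) W
      ⟨fun b => by show Φ (algebraMap L M₂ (algebraMap B L b)) ∈ W; rw [hgB₂]; exact pow_mem (hW.1 b) p,
        fun b hb => by show W.valuation (Φ (algebraMap L M₂ (algebraMap B L b))) < 1
                       rw [hgB₂, map_pow]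
                       exact pow_lt_one₀ zero_le' (hW.2 b hb) hp.ne_zero⟩
  obtain ⟨hwu₂, hgr₂⟩ := hsol M₂ hgen₂ W₂ hW₂
  -- constants
  have hgA : ∀ x : A, algebraMap K M (algebraMap A K x) = gB (algebraMap A B x) := fun x => by
    show _ = algebraMap L M (algebraMap B L (algebraMap A B x))
    rw [← IsScalarTower.algebraMap_apply A B L, IsScalarTower.algebraMap_apply A K L,
      ← IsScalarTower.algebraMap_apply K L M]
  set θ' := algebraMap K₃ M θ with hθ'def
  set a' := algebraMap M₁ M a₁ with ha'def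
  set c' := gB (algebraMap A B πA) ^ N with hc'def
  have hθ' : θ' ^ p = a' + c' * θ' := by
    rw [hθ'def, ← map_pow, hθ, map_add, map_mul, map_pow, ← IsScalarTower.algebraMap_apply K K₃ M, hgA,
      ha'def, ha₁def, hcompat]
  have haW : a' ∈ W := by
    rw [ha'def, ha₁def]
    refine mem_of_integral' W (gB.comp (algebraMap A B)) (fun x => hW.1 _) ?_
    obtain ⟨Q, hQ, hQ0⟩ := ha₁
    refine ⟨Q, hQ, ?_⟩
    have h1 := congrArg ((algebraMap M₁ M).comp (algebraMap K₁ M₁)) hQ0
    rw [map_zero, hom_eval₂] at h1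
    refine Eq.trans (congrArg (fun f => eval₂ f _ Q) (RingHom.ext fun x => ?_)) h1
    show gB (algebraMap A B x) = algebraMap M₁ M (algebraMap K₁ M₁ (algebraMap K K₁ (algebraMap A K x)))
    rw [← hgA, ← IsScalarTower.algebraMap_apply K K₁ M₁, IsScalarTower.algebraMap_apply K L M₁,
      ← IsScalarTower.algebraMap_apply L M₁ M, ← IsScalarTower.algebraMap_apply K L M]
  have hc'W : c' ∈ W := pow_mem (hW.1 _) _
  have hθW : θ' ∈ W := by
    by_contra h
    have h1 : 1 < W.valuation θ' := lt_of_not_ge fun h1 => h ((W.valuation_le_one_iff _).mp h1)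
    have h2 : W.valuation (θ' ^ p) ≤ W.valuation θ' := by
      rw [hθ']
      refine W.valuation.map_add_le (((W.valuation_le_one_iff _).mpr haW).trans h1.le) ?_
      rw [map_mul]
      exact mul_le_of_le_one_left' ((W.valuation_le_one_iff _).mpr hc'W)
    rw [map_pow] at h2
    exact absurd h2 (not_le.mpr (lt_self_pow₀ h1 hp.one_lt))
  have hP1 : W.valuation (gB π) < 1 := hW.2 π ((mem_maximalIdeal _).mpr hπ.not_isUnit)
  have hP0 : 0 < W.valuation (gB π) := zero_lt_iff.mpr ((_root_.map_ne_zero _).mpr (by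
    rw [hgB, RingHom.comp_apply, Ne, _root_.map_eq_zero, map_eq_zero_iff _ (IsFractionRing.injective B L)]
    exact hπ.ne_zero))
  have hc' : W.valuation c' ≤ W.valuation (gB π) ^ N := by
    have hnu : ¬ IsUnit (algebraMap A B πA) := fun h => hπA.not_isUnit (isUnit_of_map_unit _ _ h)
    obtain ⟨b, hb⟩ := Ideal.mem_span_singleton.mp (hπ.maximalIdeal_eq ▸ (mem_maximalIdeal _).mpr hnu)
    rw [hc'def, map_pow, hb, map_mul, map_mul]
    exact pow_le_pow_left' (mul_le_of_le_one_right' ((W.valuation_le_one_iff _).mpr (hW.1 b))) N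
  -- the comparison
  have happ : ∀ c : Fin p → M₁,
      (∑ j, c j ^ p * a₁ ^ (j : ℕ) = 0 → c = 0) ∧
      (∑ j, c j ^ p * a₁ ^ (j : ℕ) ≠ 0 →
        W.valuation ((∑ j, algebraMap M₁ M (c j) * θ' ^ (j : ℕ)) ^ p
            - algebraMap M₁ M (∑ j, c j ^ p * a₁ ^ (j : ℕ))) <
          W.valuation (algebraMap M₁ M (∑ j, c j ^ p * a₁ ^ (j : ℕ)))) := by
    intro c
    set n := ∑ j, c j ^ p * a₁ ^ (j : ℕ) with hn
    have hb : ∀ i, W.valuation (algebraMap M₁ M (c i)) ^ p * W.valuation (gB π) ^ ((r + 1) * p) ≤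
        W.valuation (algebraMap M₁ M n) := fun i => by
      have h1 := hr W₁ hW₁ c i
      rw [← map_pow, ← map_pow, ← map_mul] at h1
      have h2 := Groth.L19.EtAS.valuation_le_of_comap (algebraMap M₁ M) W h1
      rwa [map_mul, map_pow, map_pow, hgB₁, map_mul, map_pow, map_pow] at h2
    refine ⟨fun h0 => funext fun i => ?_, fun h0 => ?_⟩
    · have h1 := hb i
      rw [h0, map_zero, map_zero, le_zero_iff, mul_eq_zero] at h1
      rcases h1 with h1 | h1
      · exact (_root_.map_eq_zero (algebraMap M₁ M)).mp ((_root_.map_eq_zero W.valuation).mp (pow_eq_zero_iff'.mp h1).1)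
      · exact absurd h1 (pow_ne_zero _ hP0.ne')
    · choose w hwW hw using fun j : ℕ => pow_add_mul_mem W haW hc'W hθW j
      have hd : (∑ j, algebraMap M₁ M (c j) * θ' ^ (j : ℕ)) ^ p - algebraMap M₁ M n =
          ∑ j : Fin p, algebraMap M₁ M (c j) ^ p * (c' * w j) := by
        rw [sum_pow_char, hn, map_sum, ← Finset.sum_sub_distrib]
        refine Finset.sum_congr rfl fun j _ => ?_
        rw [mul_pow, ← pow_mul, mul_comm (j : ℕ), pow_mul, hθ', hw j, map_mul, map_pow, map_pow, ← ha'def]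
        ring
      rw [hd]
      have hn0 : W.valuation (algebraMap M₁ M n) ≠ 0 :=
        (_root_.map_ne_zero _).mpr ((_root_.map_ne_zero _).mpr h0)
      refine W.valuation.map_sum_lt hn0 fun j _ => ?_
      rw [map_mul, map_mul, map_pow]
      refine lt_of_le_of_lt (mul_le_mul' le_rfl
        (mul_le_of_le_one_right' ((W.valuation_le_one_iff _).mpr (hwW j)))) ?_
      refine lt_of_le_of_lt (mul_le_mul' le_rfl hc') ?_
      rw [← pow_sub_mul_pow _ hN.le, mul_comm (W.valuation (gB π) ^ (N - (r + 1) * p)), ← mul_assoc]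
      refine lt_of_le_of_lt (mul_le_mul' (hb j) le_rfl) ?_
      exact mul_lt_of_lt_one_right (zero_lt_iff.mpr hn0) (pow_lt_one₀ zero_le' hP1 (by omega))
  have hΦ : ∀ c : Fin p → M₁, Φ (∑ j, algebraMap M₁ M₂ (c j) * α₂ ^ (j : ℕ)) =
      algebraMap M₁ M (∑ j, c j ^ p * a₁ ^ (j : ℕ)) := fun c => by
    show algebraMap M₁ M (φ _) = _
    rw [map_sum φ]
    refine congrArg _ (Finset.sum_congr rfl fun j _ => ?_)
    rw [map_mul, map_pow, hφC, hφα]
  -- consequences
  have hval : ∀ c : Fin p → M₁, W.valuation (∑ j, algebraMap M₁ M (c j) * θ' ^ (j : ℕ)) ^ p =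
      W.valuation (Φ (∑ j, algebraMap M₁ M₂ (c j) * α₂ ^ (j : ℕ))) := fun c => by
    rw [hΦ]
    by_cases h0 : ∑ j, c j ^ p * a₁ ^ (j : ℕ) = 0
    · rw [h0, (happ c).1 h0]
      simp [zero_pow hp.ne_zero]
    · rw [← map_pow, ← W.valuation.map_add_eq_of_lt_right ((happ c).2 h0), sub_add_cancel]
  have hres : ∀ c : Fin p → M₁, ∀ (hm : ∑ j, algebraMap M₁ M (c j) * θ' ^ (j : ℕ) ∈ W)
      (hz : ∑ j, algebraMap M₁ M₂ (c j) * α₂ ^ (j : ℕ) ∈ W₂),
      residue W ⟨_, hm⟩ ^ p = residue W (inclOfComap W Φ ⟨_, hz⟩) := fun c hm hz => by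
    rw [← map_pow, ← sub_eq_zero, ← map_sub, residue_eq_zero_iff, ValuationSubring.valuation_lt_one_iff]
    show W.valuation ((∑ j, algebraMap M₁ M (c j) * θ' ^ (j : ℕ)) ^ p
      - Φ (∑ j, algebraMap M₁ M₂ (c j) * α₂ ^ (j : ℕ))) < 1
    rw [hΦ]
    by_cases h0 : ∑ j, c j ^ p * a₁ ^ (j : ℕ) = 0
    · rw [h0, (happ c).1 h0]
      simp [zero_pow hp.ne_zero]
    · refine lt_of_lt_of_le ((happ c).2 h0) ?_
      rw [← hΦ]
      exact (W.valuation_le_one_iff _).mpr hz
  have hpb₂ : ∀ z : M₂, ∃ c : Fin p → M₁, z = ∑ j, algebraMap M₁ M₂ (c j) * α₂ ^ (j : ℕ) := fun z => by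
    let pb₂ := AdjoinRoot.powerBasis hirr.ne_zero
    have hdim : pb₂.dim = p := natDegree_X_pow_sub_C
    refine ⟨fun j => pb₂.basis.repr z (Fin.cast hdim.symm j), ?_⟩
    conv_lhs => rw [← pb₂.basis.sum_repr z]
    refine Fintype.sum_equiv (finCongr hdim) _ _ fun j => ?_
    rw [pb₂.basis_eq_pow, Algebra.smul_def]
    rfl
  have hK₂rep : ∀ y : K₂, ∃ c : Fin p → K₁, y = ∑ j, algebraMap K₁ K₂ (c j) * α ^ (j : ℕ) := fun y => by
    have hdim : pb.dim = p := natDegree_X_pow_sub_C
    refine ⟨fun j => pb.basis.repr (e.symm y) (Fin.cast hdim.symm j), ?_⟩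
    conv_lhs => rw [← e.apply_symm_apply y, ← pb.basis.sum_repr (e.symm y), map_sum]
    refine Fintype.sum_equiv (finCongr hdim) _ _ fun j => ?_
    rw [pb.basis_eq_pow, Algebra.smul_def, map_mul, map_pow, show pb.gen = AdjoinRoot.root _ from rfl, hα']
    exact congrArg (· * _) (hof _)
  -- elements of `K₂` and their deformations in `K₃`
  have hK23 : ∀ y : K₂, ∃ (c : Fin p → M₁) (y₃ : K₃), ι₂ y = ∑ j, algebraMap M₁ M₂ (c j) * α₂ ^ (j : ℕ) ∧
      algebraMap K₃ M y₃ = ∑ j, algebraMap M₁ M (c j) * θ' ^ (j : ℕ) := fun y => by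
    obtain ⟨c, rfl⟩ := hK₂rep y
    refine ⟨fun j => algebraMap K₁ M₁ (c j), ∑ j, algebraMap K₁ K₃ (c j) * θ ^ (j : ℕ), ?_, ?_⟩
    · rw [map_sum]
      exact Finset.sum_congr rfl fun j _ => by rw [map_mul, map_pow, hι₂C, hι₂α]
    · rw [map_sum]
      exact Finset.sum_congr rfl fun j _ => by rw [map_mul, map_pow, hcompat]
  set V₂ := W₂.comap (algebraMap K₂ M₂) with hV₂def
  set V₃ := W.comap (algebraMap K₃ M) with hV₃def
  have hA₂ : ∀ x : A, ((algebraMap K K₂).comp (algebraMap A K)) x ∈ V₂ ∧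
      Φ (algebraMap K₂ M₂ (algebraMap K K₂ (algebraMap A K x))) = gB (algebraMap A B x) ^ p := fun x => by
    have h : Φ (algebraMap K₂ M₂ (algebraMap K K₂ (algebraMap A K x))) = gB (algebraMap A B x) ^ p := by
      rw [← IsScalarTower.algebraMap_apply K K₂ M₂, IsScalarTower.algebraMap_apply K L M₂,
        ← IsScalarTower.algebraMap_apply A K L, IsScalarTower.algebraMap_apply A B L, hgB₂]
    refine ⟨?_, h⟩
    show Φ (algebraMap K₂ M₂ (algebraMap K K₂ (algebraMap A K x))) ∈ W
    rw [h]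
    exact pow_mem (hW.1 _) p
  have hA₃ : ∀ x : A, ((algebraMap K K₃).comp (algebraMap A K)) x ∈ V₃ ∧
      algebraMap K₃ M (algebraMap K K₃ (algebraMap A K x)) = gB (algebraMap A B x) := fun x => by
    have h : algebraMap K₃ M (algebraMap K K₃ (algebraMap A K x)) = gB (algebraMap A B x) := by
      rw [← IsScalarTower.algebraMap_apply K K₃ M, hgA]
    refine ⟨?_, h⟩
    show algebraMap K₃ M _ ∈ W
    rw [RingHom.comp_apply, h]
    exact hW.1 _
  letI : Algebra A K₂ := ((algebraMap K K₂).comp (algebraMap A K)).toAlgebra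
  haveI : IsScalarTower A K K₂ := IsScalarTower.of_algebraMap_eq fun _ => rfl
  letI : Algebra A V₂ := (RingHom.codRestrict (algebraMap A K₂) V₂.toSubring fun x => (hA₂ x).1).toAlgebra
  haveI : IsScalarTower A V₂ K₂ := IsScalarTower.of_algebraMap_eq fun _ => rfl
  letI : Algebra A K₃ := ((algebraMap K K₃).comp (algebraMap A K)).toAlgebra
  haveI : IsScalarTower A K K₃ := IsScalarTower.of_algebraMap_eq fun _ => rfl
  letI : Algebra A V₃ := (RingHom.codRestrict (algebraMap A K₃) V₃.toSubring fun x => (hA₃ x).1).toAlgebra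
  haveI : IsScalarTower A V₃ K₃ := IsScalarTower.of_algebraMap_eq fun _ => rfl
  have hnonunit : ∀ x : A, ¬ IsUnit x → W.valuation (gB (algebraMap A B x)) < 1 := fun x hx =>
    hW.2 _ ((mem_maximalIdeal _).mpr fun h => hx (isUnit_of_map_unit _ _ h))
  haveI : IsLocalHom (algebraMap A V₂) := ⟨fun x hx => by
    by_contra hxu
    have h1 := (W.valuation_eq_one_iff _).mp ((hx.map (inclOfComap W₂ (algebraMap K₂ M₂))).map (inclOfComap W Φ))
    change W.valuation (Φ (algebraMap K₂ M₂ (algebraMap K K₂ (algebraMap A K x)))) = 1 at h1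
    rw [(hA₂ x).2, map_pow] at h1
    exact (pow_lt_one₀ zero_le' (hnonunit x hxu) hp.ne_zero).ne h1⟩
  haveI : IsLocalHom (algebraMap A V₃) := ⟨fun x hx => by
    by_contra hxu
    have h1 := (W.valuation_eq_one_iff _).mp (hx.map (inclOfComap W (algebraMap K₃ M)))
    change W.valuation (algebraMap K₃ M (algebraMap K K₃ (algebraMap A K x))) = 1 at h1
    rw [(hA₃ x).2] at h1
    exact (hnonunit x hxu).ne h1⟩
  obtain ⟨hdvr₂, -⟩ := Groth.L05.SepResidueSol.isDiscreteValuationRing_of_finite A K V₂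
  obtain ⟨τ, hτ⟩ := IsDiscreteValuationRing.exists_irreducible V₂
  refine ⟨?_, ?_⟩
  · -- weakly unramified
    obtain ⟨c, t, hc, ht⟩ := hK23 τ
    have htv : W.valuation (algebraMap K₃ M t) ^ p = W.valuation (Φ (ι₂ τ)) := by rw [ht, hval, hc]
    have hτ1 : W.valuation (Φ (ι₂ τ)) < 1 := (ValuationSubring.valuation_lt_one_iff W
      (inclOfComap W Φ (inclOfComap W₂ (algebraMap K₂ M₂) τ))).mp ((mem_maximalIdeal _).mpr fun h =>
        hτ.not_isUnit (isUnit_of_map_unit (inclOfComap W₂ (algebraMap K₂ M₂)) _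
          (isUnit_of_map_unit (inclOfComap W Φ) _ h)))
    have hτ0 : W.valuation (Φ (ι₂ τ)) ≠ 0 := (_root_.map_ne_zero _).mpr ((_root_.map_ne_zero Φ).mpr
      ((_root_.map_ne_zero ι₂).mpr fun h => hτ.ne_zero (Subtype.ext h)))
    have ht1 : W.valuation (algebraMap K₃ M t) < 1 := by
      by_contra h
      exact absurd (htv ▸ hτ1) (not_lt.mpr (one_le_pow₀ (not_lt.mp h)))
    refine le_antisymm (((local_hom_TFAE _).out 0 2).mp (EtRam.isLocalHom_inclOfComap W _)) fun x hx => ?_
    obtain ⟨d, hd⟩ := hM (x : M)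
    have hxv : W.valuation (x : M) ^ p ≤ W.valuation (algebraMap K₃ M t) ^ p := by
      rw [htv, hd, hval]
      have hx1 : W.valuation (Φ (∑ j, algebraMap M₁ M₂ (d j) * α₂ ^ (j : ℕ))) < 1 := by
        rw [← hval, ← hd]
        exact pow_lt_one₀ zero_le' ((ValuationSubring.valuation_lt_one_iff W x).mp hx) hp.ne_zero
      have hzW : ∑ j, algebraMap M₁ M₂ (d j) * α₂ ^ (j : ℕ) ∈ W₂ := (W.valuation_le_one_iff _).mp hx1.le
      have hzm : (⟨_, hzW⟩ : W₂) ∈ maximalIdeal W₂ := (mem_maximalIdeal _).mpr fun h =>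
        hx1.ne ((W.valuation_eq_one_iff _).mp (h.map (inclOfComap W Φ)))
      rw [← hwu₂, hτ.maximalIdeal_eq, Ideal.map_span, Set.image_singleton, Ideal.mem_span_singleton] at hzm
      obtain ⟨w, hw⟩ := hzm
      rw [show Φ (∑ j, algebraMap M₁ M₂ (d j) * α₂ ^ (j : ℕ)) = Φ (ι₂ τ) * ((inclOfComap W Φ w : W) : M) by
        rw [show ((inclOfComap W Φ w : W) : M) = Φ (w : M₂) from rfl, ← map_mul]
        exact congrArg Φ (congrArg Subtype.val hw), map_mul]
      exact mul_le_of_le_one_right' (W.valuation_le_one _)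
    have hxv' := (pow_le_pow_iff_left₀ zero_le' zero_le' hp.ne_zero).mp hxv
    have htW : algebraMap K₃ M t ∈ W := (W.valuation_le_one_iff _).mp ht1.le
    have ht0 : algebraMap K₃ M t ≠ 0 := fun h => hτ0 (by rw [← htv, h, map_zero, zero_pow hp.ne_zero])
    have hq : (x : M) / algebraMap K₃ M t ∈ W := by
      rw [← W.valuation_le_one_iff, map_div₀]
      exact (div_le_one₀ (zero_lt_iff.mpr ((_root_.map_ne_zero _).mpr ht0))).mpr hxv'
    have htm : (⟨t, htW⟩ : V₃) ∈ maximalIdeal V₃ := (mem_maximalIdeal _).mpr fun h =>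
      ht1.ne ((W.valuation_eq_one_iff _).mp (h.map (inclOfComap W (algebraMap K₃ M))))
    rw [show x = inclOfComap W (algebraMap K₃ M) ⟨t, htW⟩ * ⟨_, hq⟩ from
      Subtype.ext (mul_div_cancel₀ _ ht0).symm]
    exact Ideal.mul_mem_right _ _ (Ideal.mem_map_of_mem _ htm)
  · -- residue fields
    let j₂ : ResidueField V₂ →+* ResidueField W₂ := ResidueField.map (inclOfComap W₂ (algebraMap K₂ M₂))
    let j₃ : ResidueField V₃ →+* ResidueField W := ResidueField.map (inclOfComap W (algebraMap K₃ M))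
    let Fr : ResidueField W₂ →+* ResidueField W := ResidueField.map (inclOfComap W Φ)
    haveI : CharP W p := (W.subtype).charP Subtype.val_injective p
    haveI : CharP (ResidueField W) p := (CharP.charP_iff_prime_eq_zero hp).mpr (by
      rw [← map_natCast (residue W), CharP.cast_eq_zero, map_zero])
    have hrange : ∀ y, Fr y ∈ (frobenius (ResidueField W) p).range := by
      intro y
      obtain ⟨⟨z, hz⟩, rfl⟩ := residue_surjective y
      obtain ⟨c, rfl⟩ := hpb₂ z
      have hm : ∑ j, algebraMap M₁ M (c j) * θ' ^ (j : ℕ) ∈ W := by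
        rw [← W.valuation_le_one_iff]
        by_contra h
        have h1 : W.valuation (∑ j, algebraMap M₁ M (c j) * θ' ^ (j : ℕ)) ^ p ≤ 1 := by
          rw [hval]; exact (W.valuation_le_one_iff _).mpr hz
        exact absurd h1 (not_le.mpr (one_lt_pow₀ (not_le.mp h) hp.ne_zero))
      exact ⟨residue W ⟨_, hm⟩, hres c hm hz⟩
    have hFr : ∀ y, y ^ p ∈ Fr.range := by
      intro y
      obtain ⟨⟨m, hm⟩, rfl⟩ := residue_surjective y
      obtain ⟨c, rfl⟩ := hM m
      have hz : ∑ j, algebraMap M₁ M₂ (c j) * α₂ ^ (j : ℕ) ∈ W₂ := (W.valuation_le_one_iff _).mp (by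
        rw [← hval]; exact pow_le_one₀ zero_le' ((W.valuation_le_one_iff _).mpr hm))
      exact ⟨residue W₂ ⟨_, hz⟩, (hres c hm hz).symm⟩
    choose σ hσ using hrange
    simp only [frobenius_def] at hσ
    let σh : ResidueField W₂ →+* ResidueField W :=
      { toFun := σ
        map_one' := frobenius_inj _ p (by simp only [frobenius_def, hσ, map_one, one_pow])
        map_mul' := fun x y => frobenius_inj _ p (by simp only [frobenius_def, hσ, map_mul, mul_pow])
        map_zero' := frobenius_inj _ p (by simp only [frobenius_def, hσ, map_zero, zero_pow hp.ne_zero])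
        map_add' := fun x y => frobenius_inj _ p (by simp only [frobenius_def, hσ, map_add, add_pow_char]) }
    have hσp : ∀ y, σh y ^ p = Fr y := hσ
    have hσsurj : Function.Surjective σh := fun y => by
      obtain ⟨w, hw⟩ := hFr y
      exact ⟨w, frobenius_inj _ p (by simp only [frobenius_def, hσp, hw])⟩
    let σe := RingEquiv.ofBijective σh ⟨σh.injective, hσsurj⟩
    have hι : ∀ y, σh (j₂ y) ∈ j₃.range := by
      intro y
      obtain ⟨⟨v, hv⟩, rfl⟩ := residue_surjective y
      obtain ⟨c, v₃, hc, hv₃⟩ := hK23 v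
      have hz : ∑ j, algebraMap M₁ M₂ (c j) * α₂ ^ (j : ℕ) ∈ W₂ := hc ▸ hv
      have hm : ∑ j, algebraMap M₁ M (c j) * θ' ^ (j : ℕ) ∈ W := by
        rw [← W.valuation_le_one_iff]
        by_contra h
        have h1 : W.valuation (∑ j, algebraMap M₁ M (c j) * θ' ^ (j : ℕ)) ^ p ≤ 1 := by
          rw [hval]; exact (W.valuation_le_one_iff _).mpr hz
        exact absurd h1 (not_le.mpr (one_lt_pow₀ (not_le.mp h) hp.ne_zero))
      have hv₃W : v₃ ∈ V₃ := show algebraMap K₃ M v₃ ∈ W from hv₃ ▸ hm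
      refine ⟨residue V₃ ⟨v₃, hv₃W⟩, frobenius_inj _ p ?_⟩
      simp only [frobenius_def]
      rw [hσp]
      show residue W (inclOfComap W (algebraMap K₃ M) ⟨v₃, hv₃W⟩) ^ p =
        residue W (inclOfComap W Φ (inclOfComap W₂ (algebraMap K₂ M₂) ⟨v, hv⟩))
      rw [show inclOfComap W (algebraMap K₃ M) ⟨v₃, hv₃W⟩ = (⟨_, hm⟩ : W) from Subtype.ext hv₃,
        show inclOfComap W₂ (algebraMap K₂ M₂) ⟨v, hv⟩ = (⟨_, hz⟩ : W₂) from Subtype.ext hc]
      exact hres c hm hz
    let ι : ResidueField V₂ →+* ResidueField V₃ :=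
      (RingEquiv.ofBijective j₃.rangeRestrict
        ⟨fun x y h => j₃.injective (congrArg Subtype.val h), j₃.rangeRestrict_surjective⟩).symm.toRingHom.comp
        ((σh.comp j₂).codRestrict j₃.range hι)
    have hιj : ∀ y, j₃ (ι y) = σh (j₂ y) := fun y => congrArg Subtype.val
      ((RingEquiv.ofBijective j₃.rangeRestrict
        ⟨fun x y h => j₃.injective (congrArg Subtype.val h), j₃.rangeRestrict_surjective⟩).apply_symm_apply
        ((σh.comp j₂).codRestrict j₃.range hι y))
    letI a₂ : Algebra (ResidueField V₂) (ResidueField W₂) := j₂.toAlgebra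
    letI a₂₃ : Algebra (ResidueField V₂) (ResidueField V₃) := ι.toAlgebra
    letI a₃ : Algebra (ResidueField V₃) (ResidueField W) := j₃.toAlgebra
    letI a₂' : Algebra (ResidueField V₂) (ResidueField W) := (j₃.comp ι).toAlgebra
    haveI : IsScalarTower (ResidueField V₂) (ResidueField V₃) (ResidueField W) :=
      IsScalarTower.of_algebraMap_eq fun _ => rfl
    haveI : Algebra.IsGeometricallyReduced (ResidueField V₂) (ResidueField W₂) := hgr₂
    haveI : Algebra.IsGeometricallyReduced (ResidueField V₂) (ResidueField W) :=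
      Algebra.IsGeometricallyReduced.of_injective
        ({ σe.symm.toRingHom with
           commutes' := fun y => by
             show σe.symm (j₃ (ι y)) = j₂ y
             rw [hιj]
             exact σe.symm_apply_apply (j₂ y) } : ResidueField W →ₐ[ResidueField V₂] ResidueField W₂)
        σe.symm.injective
    haveI : IsScalarTower (ResidueField A) (ResidueField V₂) (ResidueField V₃) :=
      IsScalarTower.of_algebraMap_eq fun y => by
        obtain ⟨x, rfl⟩ := residue_surjective y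
        refine j₃.injective ?_
        show j₃ (residue V₃ (algebraMap A V₃ x)) = j₃ (ι (residue V₂ (algebraMap A V₂ x)))
        rw [hιj]
        refine frobenius_inj _ p ?_
        simp only [frobenius_def]
        rw [hσp]
        show residue W (inclOfComap W (algebraMap K₃ M) (algebraMap A V₃ x)) ^ p =
          residue W (inclOfComap W Φ (inclOfComap W₂ (algebraMap K₂ M₂) (algebraMap A V₂ x)))
        rw [← map_pow]
        refine congrArg (residue W) (Subtype.ext ?_)
        show algebraMap K₃ M (algebraMap K K₃ (algebraMap A K x)) ^ p =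
          Φ (algebraMap K₂ M₂ (algebraMap K K₂ (algebraMap A K x)))
        rw [(hA₂ x).2, (hA₃ x).2]
    haveI : Module.Finite (ResidueField A) (ResidueField V₃) :=
      Groth.L05.SepResidueSol.finite_residueField A K V₃
    haveI : Module.Finite (ResidueField V₂) (ResidueField V₃) :=
      Module.Finite.of_restrictScalars_finite (ResidueField A) _ _
    exact Groth.L05.SepResidueSol.geomReduced_of_surjective (ResidueField V₂) (ResidueField V₃) (ResidueField W)
      (ResidueField W) (Algebra.TensorProduct.lift (Algebra.ofId (ResidueField V₃) (ResidueField W))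
        (AlgHom.id (ResidueField V₂) (ResidueField W)) fun _ _ => Commute.all _ _)
      fun y => ⟨1 ⊗ₜ y, by simp⟩

end Groth.L19.EtSep
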